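import Cfsg.Agent.Lib.Spor.TC.Signed

/-!
An excluded extension of the centralizer, case 2 2 1: tables found by a computer search.
-/

set_option autoImplicit false
set_option maxRecDepth 100000

namespace CfsgLib.Spor.HSType.Cert.H221

open CfsgLib.Spor.TC

def edgeTbl : Tbl :=
  (.bin (.bin (.bin (.tip 0x170001870001600017300015000164000140001590001300014300012000130000110001200001000011200010000028000000001080000f0000370000e0000f00000e0000e4000000000e60000c0000d1000070000c10000a0000b3000090000a30000800009000004000082000070000120000600007100005000063000040000500000100004200001000015000030000000000200003000000000004000000000020000100002000000000010) (.tip 0x10000100000a0002800010a000290002940005f00029a0005f0005f40000e0005f80005e0002930005d0005e00005c0005d20005b0005c80005a0005b3000590005a000055000592000550000d90005800055a000520000d7000520004140005700052a00057000414)) (.bin (.tip 0x450004630000500045800044000054000430004440004300005500042000430000040004240000f0002a00000d0002120000d000061000220000da0000c0003ca0002a0000270002a0003f20003e0002aa00041000277000400004130003f0004000003e0003f2000020003e60003c0002210003d0000330003b0003d10003b0003c30003a0003b1000390003a2000380003920003700038400036000377000350003630003400035500033000342)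 .none)) (.bin (.bin (.tip 0x3200033400031000327000300003130002f0003040002e0002f90002d0002e30002c0002d00002b0002c0000280002b20002a000026000290002a80002800029600001000288000270000b1000260002730002500026300024000250000230002420002200006100004000085000230000230002100023100021000223000200002110001f0002020001e0001f20001d0001e40001c0001d70001b0001c30001a0001b5000190001a200018000194) .none) (.bin (.tip 0x580000d900054000580000570000d7000530005700000d0002750000b0000640004c0000ba0005600006a0000b000564000090000540004400009a00007000559000540000c900050000540000530000c70004e000530000520000d6000510005280004f000516000500000790004f000500000060004f80004e0000770004d0004e0000060004d60004c0000640004b0004c70004a0004b3000490004a9000480004920004700048600046000475) .none)))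

def nodeTbl : Tbl :=
  (.bin (.bin (.tip 0x1e20001d40001c70001b30001a50001920001840001770001630001540001490001330001200001100001020000080000e00000060000c10000710000a3000093000080000042000061000053000040000012000020000010000000000000) (.tip 0xe80005d00005c20005b80005a30005900005520005400005300000b40000790005000004e00005180004f60004f00000680004d00000660004b70004a30004990004820004760004650004530000580004340004200000440004030003f0)) (.bin (.tip 0x3e20000260003b10003b30003a10003920003820003740003670003530003450003320003240003170003030002f40002e90002d30002c00002b00002820002980002860000180002630002530002400002320002110002130002010001f2) .none))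

def rowTbl : Tbl :=
  .none

/-- The relators. -/
def rels : List (List ℕ) := [
  [0, 0, 0, 0],
  [2, 2, 2, 2, 2, 2, 2],
  [4, 4, 4],
  [4, 2, 5, 3, 3],
  [4, 0, 5, 1],
  [0, 2, 0, 3, 1, 2, 1, 3],
  [0, 2, 2, 0, 3, 3, 1, 2, 2, 1, 3, 3],
  [2, 0, 3, 2, 2, 0, 3, 3, 2, 1, 3, 2, 2, 1, 3, 3],
  [2, 2, 2, 0, 3, 3, 3, 2, 2, 1, 3, 3, 2, 2, 1, 3, 3, 2, 1, 3, 2, 1, 3, 2, 1, 3, 1],
  [6, 4, 7, 4],
  [6, 0, 7, 0],
  [6, 2, 0, 3, 7, 2, 2, 1, 3, 3],
  [6, 6],
  [2, 6, 2, 6, 2, 6],
  [8, 4, 9, 5],
  [8, 0, 9, 0],
  [8, 8, 1, 1],
  [8, 6, 8, 6, 1],
  [8, 2, 0, 0, 3, 9, 4, 3, 7, 4, 2, 5, 3, 7, 4, 2, 2, 1, 3, 2, 1, 3, 1, 1],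
  [8, 3, 5, 6, 2, 9, 3, 7, 4, 2],
  [8, 2, 0, 3, 8, 2, 0, 3, 8, 2, 0, 3, 5, 7]]

/-- The generators of the subgroup. -/
def subs : List (List ℕ) := [[2], [4]]

/-- The certificate. -/
noncomputable def cert : Cert :=
  ⟨10, rels, subs, edgeTbl.get 44, nodeTbl.get 24, rowTbl.get 20⟩

/-- The word traced into the subgroup. -/
def target : List ℕ := [0, 0]

end CfsgLib.Spor.HSType.Cert.H221
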