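import Cfsg.Agent.Lib.Spor.HSType.Cert.H221.Data

/-!
Checks of a part of the derivation.
-/

set_option autoImplicit false

namespace CfsgLib.Spor.HSType.Cert.H221

open CfsgLib.Spor.TC

def scodes0 : List ℕ := [
  0x1,
  0x1,
  0x10000100003,
  0x10000200003,
  0x1,
  0x2000040000a00004000010000100002,
  0x1000080000200003000010000500002,
  0x1,
  0x1,
  0x1,
  0x1,
  0x100005000020001000012000140001600006000010000600002,
  0x1,
  0x1,
  0x1,
  0x1,
  0x1,
  0x1,
  0x1,
  0x25000080002600002000010000a00002,
  0x1,
  0xc000260002a00003000010000b00002,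
  0x1,
  0x3000010002e00002000010001100002,
  0x1,
  0x1,
  0x1,
  0x1,
  0x1,
  0x1,
  0x1,
  0x1,
  0x1,
  0x1,
  0x1,
  0x1,
  0x1,
  0x1,
  0x1,
  0x1,
  0x1,
  0x1,
  0x1,
  0x3000010002e000320003400036000380003a0003c0003e00040000420004400046000480004a0004c0004e000500005200054000530005600016000010001300002,
  0x190000f0000d0001000003000020000400002,
  0x13000110000f0000400057000550005400005000020000600002,
  0x1,
  0x1,
  0x1,
  0x1,
  0x1f0001d0001b000190000f00004000570005e00060000620006400007000020000700002,
  0x1,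
  0x1,
  0x1,
  0x3000680006a0006c00004000020001200002,
  0x1,
  0x1,
  0x1,
  0x1,
  0x1,
  0x1,
  0x1,
  0x1,
  0x1,
  0x1,
  0x1,
  0x1,
  0x1,
  0x1,
  0x1,
  0x1,
  0x1,
  0x1,
  0x1,
  0x9000030006800070000720007400076000780007a0007c0007e00080000820008400086000880008a0008c0008e0009000092000910009400016000020001300002,
  0x5300056000580000a00095000930009200005000030000600002,
  0x1,
  0x1,
  0x1,
  0x1,
  0x63000610005f0005d000580009a0009c0009e000a000005000030000c00002,
  0x6e0009a00002000030000d00002,
  0x9b000a400004,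
  0x9a000a400004,
  0x9100094000960000c0000600002000170002200006000040000600002,
  0x23000aa0009800004,
  0x5b000ac00004,
  0x54000ac00004,
  0xa80000a0002b00002000040000b00002,
  0x1,
  0x1,
  0x11000b4000b600003000050000500002,
  0x1,
  0xb7000ba00003000060000300002,
  0x1,
  0x1,
  0x1,
  0x1,
  0x1,
  0x1,
  0x1,
  0x1,
  0x13000be000c0000c2000c4000c6000c8000ca000cc00009000060001400002,
  0x1,
  0x1,
  0x15000d0000d200003000070000b00002,
  0x1,
  0x1,
  0x15000d6000d800003000070001000002,
  0x1,
  0x1,
  0xae000d6000dc000de00004000070001200002,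
  0x1,
  0x21000d3000e200003000080000b00002,
  0x1,
  0x21000d9000e600003000080001000002,
  0x1,
  0x1b0005900012000bb00004000090000500002,
  0xbb000ec00004,
  0x1,
  0x13000ed0001e00020000f0000020000c0000400002,
  0xf0000f2000cd00004,
  0xcd000f400004,
  0x66000f6000ad000030000c0000500002,
  0x1,
  0x23000e3000fa000030000d0000b00002,
  0x1,
  0x23000e7000fe000030000d0001000002,
  0xa2000f7000fb000020000e0000a00002,
  0xe0000fb000020000e0000d00002,
  0x1010010400004,
  0xfb0010400004,
  0xe90002200024000ff000020000e0001100002,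
  0xff0010a00004,
  0x1,
  0x1,
  0x1,
  0x1,
  0x1,
  0x1,
  0x6c000a60009e000a000105001080010b0010e0011000112001140011600118000080000e0001500002,
  0x1,
  0x11b000270011c000020000f0000f00002,
  0x6c000b1000290011c000020000f0001100002,
  0x11f0011d0012000004,
  0x300005700055000af0010b0010e00110001120011400116001180011a00121000690000f000110001500002,
  0x2e001230006700004,
  0x20012600004]

set_option maxRecDepth 100000 in
theorem steps0 : cert.SStepsOK 0 148 :=
  Cert.SStepsOK.of_check _ (codes := scodes0) (by decide +kernel)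

end CfsgLib.Spor.HSType.Cert.H221
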